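import Cfsg.Agent.Lib.ReeF4Tits.Derived
import Cfsg.Agent.Lib.BN.Basic
import Cfsg.Agent.Lib.PGroup.Basic

/-!
2F4(2): every nontrivial normal subgroup contains the derived group, which is simple.
-/

set_option autoImplicit false
set_option linter.unusedSectionVars false
set_option maxRecDepth 4000

namespace CfsgLib.ReeF4Tits

open Cfsg.Lie CfsgLib.Chev CfsgLib.ReeF4 CfsgLib.ReeF4Out
open scoped commutatorElement

theorem jl_noncomm : ∃ r : Fin 48, sigs chevF4 tb (jl false ++ jl true) r ≠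
    sigs chevF4 tb (jl true ++ jl false) r := by decide +kernel

/-- a p-group generated by one element and the derived group is abelian -/
theorem derived_eq_bot {Q : Type*} [Group Q] [Finite Q] {p : ℕ} [Fact p.Prime] (hQ : IsPGroup p Q)
    (x : Q) (h : commutator Q ⊔ Subgroup.zpowers x = ⊤) : commutator Q = ⊥ := by
  have hcyc : Subgroup.zpowers x = ⊤ := by
    rcases eq_top_or_exists_le_coatom (Subgroup.zpowers x) with h' | ⟨M, hM, hxM⟩
    · exact h'
    · exact absurd (top_unique (h ▸ sup_le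
        ((CfsgLib.PGroup.commutator_le_frattini hQ).trans (frattini_le_coatom hM)) hxM)) hM.1
  rw [commutator_def, Subgroup.commutator_eq_bot_iff_le_centralizer]
  intro a _
  rw [Subgroup.mem_centralizer_iff]
  intro b _
  obtain ⟨i, rfl⟩ := Subgroup.mem_zpowers_iff.1 (hcyc ▸ Subgroup.mem_top a : a ∈ Subgroup.zpowers x)
  obtain ⟨j, rfl⟩ := Subgroup.mem_zpowers_iff.1 (hcyc ▸ Subgroup.mem_top b : b ∈ Subgroup.zpowers x)
  exact zpow_mul_comm x j i

variable {K : Type*} [Field K] [Fintype K] {σ : MulAut ↥(chevF4.group K)} (hσ : IsSigma 0 σ)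
include hσ

theorem U_isPGroup : IsPGroup 2 ↥(Uw K 0) := IsPGroup.of_card (card_U hσ)

theorem commutator_le_of_normal {N : Subgroup ↥(G1 K 0)} [N.Normal] (hN : N ≠ ⊥) :
    commutator ↥(G1 K 0) ≤ N := by
  haveI : Fact (Nat.Prime 2) := ⟨Nat.prime_two⟩
  obtain ⟨P, hP⟩ := exists_hasBN hσ
  have hM : P.B ⊔ N = P.parabolic {x | x ∈ P.S ∧ x ∈ P.B ⊔ N} :=
    CfsgLib.BN.eq_parabolic P le_sup_left
  by_cases hall : ∀ s : Bool, ng hσ s ∈ P.B ⊔ N
  · have htop : P.B ⊔ N = ⊤ := by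
      refine top_le_iff.1 <| (CfsgLib.BN.parabolic_S P).ge.trans
        (sup_le le_sup_left ((Subgroup.closure_le _).2 ?_))
      intro t ht
      rw [hP.S] at ht
      obtain ⟨s, rfl⟩ := ht
      exact hall s
    rw [hP.B, B_eq_U hσ] at htop
    have hsurj : Function.Surjective ((QuotientGroup.mk' N).comp (Uw K 0).subtype) := by
      intro z
      obtain ⟨g, rfl⟩ := QuotientGroup.mk'_surjective N z
      obtain ⟨b, hb, n, hn, rfl⟩ := Subgroup.mem_sup_of_normal_right.1
        (show g ∈ Uw K 0 ⊔ N by rw [htop]; trivial)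
      refine ⟨⟨b, hb⟩, ?_⟩
      rw [map_mul, show QuotientGroup.mk' N n = 1 from (QuotientGroup.eq_one_iff n).2 hn, mul_one]
      rfl
    have hQ : IsPGroup 2 (↥(G1 K 0) ⧸ N) := (U_isPGroup hσ).of_surjective _ hsurj
    have hmap : (commutator ↥(G1 K 0)).map (QuotientGroup.mk' N) = commutator (↥(G1 K 0) ⧸ N) := by
      rw [commutator_def, commutator_def, Subgroup.map_commutator,
        Subgroup.map_top_of_surjective _ (QuotientGroup.mk'_surjective N)]
    have h := congrArg (Subgroup.map (QuotientGroup.mk' N)) (gen_top hσ)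
    rw [Subgroup.map_sup, hmap, MonoidHom.map_zpowers,
      Subgroup.map_top_of_surjective _ (QuotientGroup.mk'_surjective N)] at h
    have hbot := derived_eq_bot hQ _ h
    rw [← hmap, Subgroup.map_eq_bot_iff, QuotientGroup.ker_mk'] at hbot
    exact hbot
  · push Not at hall
    obtain ⟨t, ht⟩ := hall
    exfalso
    by_cases hs : ng hσ (!t) ∈ P.B ⊔ N
    · have hc' := CfsgLib.BN.commute_of_split P (K := N) (s := ⟨ng hσ (!t), ng_mem_S hP _⟩)
        (t := ⟨ng hσ t, ng_mem_S hP _⟩) hs ht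
      have hcomm : ng hσ (!t) * ng hσ t = ng hσ t * ng hσ (!t) := by
        have hsN : ∀ s, ng hσ s ∈ P.N := fun s => hP.N ▸ ng_mem_N hσ s
        have hw := (CfsgLib.BN.wk_eq_one_iff P (mul_mem (mul_mem (mul_mem (hsN (!t)) (hsN t))
          (inv_mem (hsN (!t)))) (inv_mem (hsN t)))).1 (by
          show CfsgLib.BN.sgen P ⟨ng hσ (!t), ng_mem_S hP _⟩ * CfsgLib.BN.sgen P ⟨ng hσ t, ng_mem_S hP _⟩ *
            (CfsgLib.BN.sgen P ⟨ng hσ (!t), ng_mem_S hP _⟩)⁻¹ *
            (CfsgLib.BN.sgen P ⟨ng hσ t, ng_mem_S hP _⟩)⁻¹ = 1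
          rw [← hc']; group)
        rw [hP.B] at hw
        have h1 := H_bot hσ (Nw_inf_Bw hσ hw (mul_mem (mul_mem (mul_mem (ng_mem_N hσ _) (ng_mem_N hσ _))
          (inv_mem (ng_mem_N hσ _))) (inv_mem (ng_mem_N hσ _))))
        have h2 := mul_inv_eq_one.1 h1
        exact mul_inv_eq_iff_eq_mul.1 h2
      have hft : ng hσ false * ng hσ true = ng hσ true * ng hσ false := by
        cases t
        · exact hcomm.symm
        · exact hcomm
      have h3 : nProd chevF4 K (jl false ++ jl true) = nProd chevF4 K (jl true ++ jl false) := by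
        rw [nProd_append, nProd_append]
        exact congrArg Subtype.val hft
      obtain ⟨r, hr⟩ := jl_noncomm
      refine hr (elX_root_unique hc (F := K) (sigs_lt hc _ (show (r : ℕ) < chevF4.nroots from r.2))
        (sigs_lt hc _ (show (r : ℕ) < chevF4.nroots from r.2)) one_ne_zero (u := 1) ?_)
      show X _ (1 : K) = X _ (1 : K)
      rw [← conj_elX_one hσ.char2 _ (show (r : ℕ) < chevF4.nroots from r.2),
        ← conj_elX_one hσ.char2 _ (show (r : ℕ) < chevF4.nroots from r.2), h3]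
    · have hJ : {x | x ∈ P.S ∧ x ∈ P.B ⊔ N} = ∅ := by
        rw [Set.eq_empty_iff_forall_notMem]
        rintro x ⟨hx, hx'⟩
        rw [hP.S] at hx
        obtain ⟨s, rfl⟩ := hx
        rcases Bool.eq_or_eq_not s t with rfl | rfl
        · exact ht hx'
        · exact hs hx'
      rw [hJ, Cfsg.BNPair.parabolic, Subgroup.closure_empty, sup_bot_eq, sup_eq_left] at hM
      rw [hP.B, B_eq_U hσ] at hM
      refine hN ((Subgroup.eq_bot_iff_forall _).2 fun x hx => ?_)
      exact U_inf_V hσ (hM hx)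
        ((ReeF4Out.n0_conj hσ).2.1 (hM (Subgroup.Normal.conj_mem ‹N.Normal› _ hx (n0 hσ))))

theorem thirteen : 13 ∣ Nat.card ↥(commutator ↥(G1 K 0)) ∧
    ¬ 13 ^ 2 ∣ Nat.card ↥(commutator ↥(G1 K 0)) := by
  have h := Subgroup.card_mul_index (commutator ↥(G1 K 0))
  rw [index_derived hσ, card_G hσ] at h
  rw [show Nat.card ↥(commutator ↥(G1 K 0)) = 2 ^ 11 * 3 ^ 3 * 5 ^ 2 * 13 by omega]
  norm_num

theorem derived_ne_bot : commutator ↥(G1 K 0) ≠ ⊥ := fun h => by
  have := (thirteen hσ).1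
  rw [h, Subgroup.card_bot] at this
  norm_num at this

theorem derived_not_comm : ¬ IsMulCommutative ↥(commutator ↥(G1 K 0)) := by
  intro hT
  haveI : Fact (Nat.Prime 13) := ⟨by norm_num⟩
  have h13 := (thirteen hσ).1
  set T := commutator ↥(G1 K 0)
  obtain ⟨x, hx⟩ := exists_prime_orderOf_dvd_card' (G := ↥T) 13 h13
  let N : Subgroup ↥(G1 K 0) :=
    { carrier := {g | g ∈ T ∧ g ^ 13 = 1}
      one_mem' := ⟨one_mem _, one_pow _⟩
      mul_mem' := fun {a b} ha hb => ⟨mul_mem ha.1 hb.1, by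
        rw [(show Commute a b from congrArg Subtype.val (hT.is_comm.comm ⟨a, ha.1⟩ ⟨b, hb.1⟩)).mul_pow,
          ha.2, hb.2, mul_one]⟩
      inv_mem' := fun {a} ha => ⟨inv_mem ha.1, by rw [inv_pow, ha.2, inv_one]⟩ }
  haveI : N.Normal := ⟨fun a ha g => ⟨Subgroup.Normal.conj_mem inferInstance _ ha.1 g, by
    rw [conj_pow, ha.2, mul_one, mul_inv_cancel]⟩⟩
  have hxN : (x : ↥(G1 K 0)) ∈ N := ⟨x.2, by
    rw [← SubgroupClass.coe_pow, ← hx, pow_orderOf_eq_one]; rfl⟩
  have hN : N ≠ ⊥ := fun h => by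
    rw [h, Subgroup.mem_bot] at hxN
    have : x = 1 := Subtype.ext hxN
    rw [this, orderOf_one] at hx
    norm_num at hx
  obtain ⟨y, hy⟩ := exists_prime_orderOf_dvd_card' (G := ↥T) 2 (by
    have h := Subgroup.card_mul_index T
    rw [index_derived hσ, card_G hσ] at h
    rw [show Nat.card ↥T = 2 ^ 11 * 3 ^ 3 * 5 ^ 2 * 13 by omega]
    norm_num)
  have hy' : y ^ 13 = 1 := Subtype.ext ((commutator_le_of_normal hσ hN y.2).2)
  have := orderOf_dvd_of_pow_eq_one hy'
  rw [hy] at this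
  norm_num at this

theorem derived_perfect : ⁅commutator ↥(G1 K 0), commutator ↥(G1 K 0)⁆ = commutator ↥(G1 K 0) := by
  refine le_antisymm (Subgroup.commutator_le_right _ _) (commutator_le_of_normal hσ fun h => ?_)
  refine derived_not_comm hσ ⟨⟨fun a b => Subtype.ext ?_⟩⟩
  have := Subgroup.commutator_mem_commutator a.2 b.2 (H₁ := commutator ↥(G1 K 0)) (H₂ := commutator ↥(G1 K 0))
  rw [h, Subgroup.mem_bot] at this
  exact commutatorElement_eq_one_iff_mul_comm.1 this

theorem normal_of_norm {A : Subgroup ↥(G1 K 0)} {g : ↥(G1 K 0)} (hg : g ∉ commutator ↥(G1 K 0))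
    (hT : ∀ t ∈ commutator ↥(G1 K 0), ∀ a ∈ A, t * a * t⁻¹ ∈ A) (hA : ∀ a ∈ A, g * a * g⁻¹ ∈ A) :
    A.Normal := by
  refine ⟨fun a ha x => ?_⟩
  by_cases hx : x ∈ commutator ↥(G1 K 0)
  · exact hT x hx a ha
  · have hx' : x * g⁻¹ ∈ commutator ↥(G1 K 0) :=
      (Subgroup.mul_mem_iff_of_index_two (index_derived hσ)).2 (by simp [hx, hg])
    have := hT _ hx' _ (hA a ha)
    rwa [show x * g⁻¹ * (g * a * g⁻¹) * (x * g⁻¹)⁻¹ = x * a * x⁻¹ by group] at this

theorem derived_isSimple : IsSimpleGroup ↥(commutator ↥(G1 K 0)) := by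
  set T := commutator ↥(G1 K 0) with hTdef
  haveI : Nontrivial ↥T := (Subgroup.nontrivial_iff_ne_bot _).2 (derived_ne_bot hσ)
  refine ⟨fun M hM => ?_⟩
  by_contra hcon
  push Not at hcon
  obtain ⟨hM0, hM1⟩ := hcon
  obtain ⟨g, hg⟩ : ∃ g, g ∉ T := by
    by_contra hall
    push Not at hall
    have := index_derived hσ
    rw [show commutator ↥(G1 K 0) = ⊤ from (Subgroup.eq_top_iff' _).2 hall, Subgroup.index_top] at this
    norm_num at this
  have hg2 : g * g ∈ T := Subgroup.mul_self_mem_of_index_two (index_derived hσ) g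
  set A := M.map T.subtype with hA
  set B := A.map (MulAut.conj g).toMonoidHom with hB
  have hAT : A ≤ T := Subgroup.map_subtype_le _
  have hA_norm : ∀ t ∈ T, ∀ a ∈ A, t * a * t⁻¹ ∈ A := by
    rintro t ht a ⟨b, hb, rfl⟩
    exact ⟨_, hM.conj_mem b hb ⟨t, ht⟩, rfl⟩
  have memB : ∀ {y}, y ∈ B ↔ g⁻¹ * y * g ∈ A := fun {y} => by
    constructor
    · rintro ⟨a, ha, rfl⟩
      simpa [mul_assoc] using ha
    · intro h
      exact ⟨_, h, by simp [mul_assoc]⟩
  have hBT : B ≤ T := fun y hy => by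
    have := Subgroup.Normal.conj_mem (inferInstance : T.Normal) _ (hAT (memB.1 hy)) g
    simpa [mul_assoc] using this
  have hB_norm : ∀ t ∈ T, ∀ b ∈ B, t * b * t⁻¹ ∈ B := fun t ht b hb => by
    rw [memB] at hb ⊢
    have h := hA_norm (g⁻¹ * t * g) (by
      simpa using Subgroup.Normal.conj_mem (inferInstance : T.Normal) _ ht g⁻¹) _ hb
    rwa [show g⁻¹ * t * g * (g⁻¹ * b * g) * (g⁻¹ * t * g)⁻¹ = g⁻¹ * (t * b * t⁻¹) * g by group] at h
  have hsw : ∀ a ∈ A, g * a * g⁻¹ ∈ B := fun a ha => memB.2 (by simpa [mul_assoc] using ha)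
  have hsw' : ∀ b ∈ B, g * b * g⁻¹ ∈ A := fun b hb => by
    have h := hA_norm _ hg2 _ (memB.1 hb)
    rwa [show g * g * (g⁻¹ * b * g) * (g * g)⁻¹ = g * b * g⁻¹ by group] at h
  haveI hI : (A ⊓ B).Normal := normal_of_norm hσ hg
    (fun t ht a ha => ⟨hA_norm t ht a ha.1, hB_norm t ht a ha.2⟩)
    (fun a ha => ⟨hsw' a ha.2, hsw a ha.1⟩)
  have hA0 : A ≠ ⊥ := fun h => hM0 ((Subgroup.map_eq_bot_iff_of_injective _ T.subtype_injective).1 h)
  have hA1 : ¬ T ≤ A := fun h => hM1 ((Subgroup.eq_top_iff' _).2 fun x => by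
    obtain ⟨y, hy, e⟩ := h x.2
    rwa [← show y = x from Subtype.ext e])
  have hdisj : A ⊓ B = ⊥ := by
    by_contra hne
    exact hA1 ((commutator_le_of_normal hσ hne).trans inf_le_left)
  haveI hS : (A ⊔ B).Normal := normal_of_norm hσ hg
    (fun t ht a ha => by
      have : A ⊔ B ≤ (A ⊔ B).comap (MulAut.conj t).toMonoidHom :=
        sup_le (fun x hx => Subgroup.mem_sup_left (hA_norm t ht x hx))
          (fun x hx => Subgroup.mem_sup_right (hB_norm t ht x hx))
      exact this ha)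
    (fun a ha => by
      have : A ⊔ B ≤ (A ⊔ B).comap (MulAut.conj g).toMonoidHom :=
        sup_le (fun x hx => Subgroup.mem_sup_right (hsw x hx))
          (fun x hx => Subgroup.mem_sup_left (hsw' x hx))
      exact this ha)
  have hsup : A ⊔ B = T := le_antisymm (sup_le hAT hBT) (commutator_le_of_normal hσ (fun h =>
    hA0 (le_bot_iff.1 (h ▸ le_sup_left))))
  have hnorm : A ≤ Subgroup.normalizer (B : Set ↥(G1 K 0)) := fun a ha => by
    rw [Subgroup.mem_normalizer_iff]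
    exact fun b => ⟨fun hb => hB_norm a (hAT ha) b hb, fun hb => by
      simpa [mul_assoc] using hB_norm a⁻¹ (inv_mem (hAT ha)) _ hb⟩
  have hbij : Function.Bijective (fun x : ↥A × ↥B =>
      (⟨x.1.1 * x.2.1, mul_mem (hAT x.1.2) (hBT x.2.2)⟩ : ↥T)) := by
    constructor
    · intro x y e
      have h := Subgroup.mul_injective_of_disjoint (disjoint_iff.2 hdisj) (congrArg Subtype.val e :)
      exact h
    · intro t
      obtain ⟨a, ha, b, hb, e⟩ : ∃ a ∈ A, ∃ b ∈ B, a * b = (t : ↥(G1 K 0)) := by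
        have ht : (t : ↥(G1 K 0)) ∈ ((A ⊔ B : Subgroup _) : Set ↥(G1 K 0)) := by rw [hsup]; exact t.2
        rw [Subgroup.coe_mul_of_left_le_normalizer_right _ _ hnorm] at ht
        obtain ⟨a, ha, b, hb, e⟩ := Set.mem_mul.1 ht
        exact ⟨a, ha, b, hb, e⟩
      exact ⟨(⟨a, ha⟩, ⟨b, hb⟩), Subtype.ext e⟩
  have hcard : Nat.card ↥T = Nat.card ↥A * Nat.card ↥A := by
    rw [← Nat.card_congr (Equiv.ofBijective _ hbij), Nat.card_prod]
    congr 1
    exact Subgroup.card_map_of_injective (MulAut.conj g).injective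
  obtain ⟨h1, h2⟩ := thirteen hσ
  rw [← hTdef, hcard] at h1 h2
  rcases (Nat.Prime.dvd_mul (by norm_num)).1 h1 with h | h <;>
    exact h2 (by rw [pow_two]; exact Nat.mul_dvd_mul h h)

end CfsgLib.ReeF4Tits
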