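import Cfsg.Agent.Lib.ReeF4Tits.Colour
import Cfsg.Agent.Lib.ReeF4Out.Nodes
import Cfsg.Agent.Lib.ReeF4Out.BN
import Mathlib.GroupTheory.Transfer
import Mathlib.GroupTheory.Abelianization.Defs

/-!
2F4(2): order, and the derived group has index two. The homomorphism onto the group of order two is
the transfer of the colour change.
-/

set_option autoImplicit false
set_option linter.unusedSectionVars false
set_option maxRecDepth 4000

namespace CfsgLib.ReeF4Tits

open Cfsg.Lie CfsgLib.Chev CfsgLib.ReeF4 CfsgLib.ReeF4Out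
open scoped commutatorElement

variable {K : Type*} [Field K] [Fintype K] {σ : MulAut ↥(chevF4.group K)} (hσ : IsSigma 0 σ)
include hσ

theorem card_two : Fintype.card K = 2 := by rw [hσ.card]; rfl

theorem H_bot {h : ↥(G1 K 0)} (hh : h ∈ Hw K 0) : h = 1 :=
  Subtype.ext (diag_trivial hσ (Subgroup.mem_subgroupOf.1 hh))

theorem B_eq_U : Bw K 0 = Uw K 0 := by
  refine le_antisymm (fun b hb => ?_) (U_le_B hσ)
  obtain ⟨u, hu, h, hh, rfl⟩ := B_split hσ hb
  rw [H_bot hσ hh, mul_one]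
  exact hu

theorem card_G : Nat.card ↥(G1 K 0) = 2 ^ 12 * 3 ^ 3 * 5 ^ 2 * 13 := by
  rw [← fix_eq hσ, card_fix hσ, sum_dimI, card_two hσ]
  norm_num

theorem card_U : Nat.card ↥(Uw K 0) = 2 ^ 12 := by
  rw [← card_two hσ, ← card_V_pos hσ]
  exact Nat.card_congr ⟨fun x => ⟨((x : ↥(G1 K 0)) : GL chevF4.Idx K), (mem_U hσ).1 x.2⟩,
    fun v => ⟨⟨v.1, V_pos_le hσ v.2⟩, (mem_U hσ).2 v.2⟩, fun _ => rfl, fun _ => rfl⟩

theorem index_U : (Uw K 0).index = 3 ^ 3 * 5 ^ 2 * 13 := by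
  have h := Subgroup.card_mul_index (Uw K 0)
  rw [card_U hσ, card_G hσ] at h
  omega

/-- the colour change of an element of `U` -/
noncomputable def muF (x : ↥(Uw K 0)) : ZMod 2 :=
  (act_U hσ ((mem_U hσ).1 x.2)).choose

theorem muF_spec (x : ↥(Uw K 0)) : Act ((x : ↥(G1 K 0)) : GL chevF4.Idx K) (muF hσ x) :=
  (act_U hσ ((mem_U hσ).1 x.2)).choose_spec

/-- the colour change as a homomorphism -/
noncomputable def mu : ↥(Uw K 0) →* Multiplicative (ZMod 2) where
  toFun x := Multiplicative.ofAdd (muF hσ x)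
  map_one' := by
    rw [ofAdd_eq_one]
    exact Act.unique hσ (muF_spec hσ 1) Act.one
  map_mul' x y := by
    rw [← ofAdd_add]
    exact congrArg _ (Act.unique hσ (muF_spec hσ (x * y)) ((muF_spec hσ x).mul (muF_spec hσ y)))

theorem mu_conj {g : ↥(G1 K 0)} {x : ↥(G1 K 0)} (hx : x ∈ Uw K 0) (hx' : g * x * g⁻¹ ∈ Uw K 0) :
    mu hσ ⟨g * x * g⁻¹, hx'⟩ = mu hσ ⟨x, hx⟩ :=
  congrArg Multiplicative.ofAdd (Act.unique hσ (muF_spec hσ ⟨_, hx'⟩)
    (act_conj hσ (G1_le_fix hσ g.2) ((mem_U hσ).1 hx) ((mem_U hσ).1 hx') (muF_spec hσ ⟨x, hx⟩)))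

theorem transfer_mu (y : ↥(G1 K 0)) (hy : y ∈ Uw K 0) :
    MonoidHom.transfer (mu hσ) y = mu hσ ⟨y, hy⟩ := by
  classical
  let := (Uw K 0).fintypeQuotientOfFiniteIndex
  rw [MonoidHom.transfer_eq_prod_quotient_orbitRel_zpowers_quot]
  refine (Finset.prod_congr rfl (g := fun q =>
    mu hσ ⟨y, hy⟩ ^ Function.minimalPeriod (y • ·) q.out) fun q _ => ?_).trans ?_
  · rw [← map_pow]
    refine Eq.trans ?_ (mu_conj hσ (g := q.out.out⁻¹) (x := y ^ _) (pow_mem hy _)
      (by rw [inv_inv]; exact QuotientGroup.out_conj_pow_minimalPeriod_mem (Uw K 0) y q.out))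
    congr 1
  · rw [Finset.prod_pow_eq_pow_sum, ← Subgroup.index_eq_sum_minimalPeriod, index_U hσ]
    rw [← pow_mod_natCard, show Nat.card (Multiplicative (ZMod 2)) = 2 by simp]
    norm_num

theorem qg_coe (x u : K) : (qg hσ true x u : GL chevF4.Idx K) =
    X f4b x * X f4a (x ^ 2 ^ 0) * X f4ab u * X f4aab (x ^ (2 * 2 ^ 0 + 1) + u ^ (2 * 2 ^ 0)) := rfl

theorem coe_a : (qg hσ true (1 : K) 0 : GL chevF4.Idx K) = xw K [f4b, f4a, f4aab] := by
  rw [qg_coe]
  simp [xw, X_zero' hσ (show f4ab < 48 by decide), mul_assoc]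

theorem coe_a2 : (qg hσ true (0 : K) 1 : GL chevF4.Idx K) = xw K [f4ab, f4aab] := by
  rw [qg_coe]
  simp [xw, X_zero' hσ (show f4a < 48 by decide), X_zero' hσ (show f4b < 48 by decide)]

theorem coe_p : (pg hσ true (1 : K) : GL chevF4.Idx K) = xw K [f4p1, f4p4] := by
  rw [coe_pg]
  simp [xw, pR]

/-- the monomial element of an alternating product in the group -/
noncomputable def nuG (s : Bool) (k : ℕ) : ↥(G1 K 0) := ⟨nu K s k, nu_mem hσ s k⟩

theorem coe_nuG_conj (s : Bool) (k : ℕ) {x : ↥(G1 K 0)} {w : List ℕ} (hw : ∀ r ∈ w, r < 48)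
    (h : (x : GL chevF4.Idx K) = xw K w) :
    ((nuG hσ s k * x * (nuG hσ s k)⁻¹ : ↥(G1 K 0)) : GL chevF4.Idx K) =
      xw K (w.map (sigs chevF4 tb (altW s k))) := by
  rw [← nu_conj hσ _ w hw, Subgroup.coe_mul, Subgroup.coe_mul, Subgroup.coe_inv, h]
  rfl

omit hσ in
theorem xw_append (v w : List ℕ) : xw K (v ++ w) = xw K v * xw K w := by
  simp [xw]

theorem conj_mem_iff {D : Subgroup ↥(G1 K 0)} [D.Normal] {n x : ↥(G1 K 0)} :
    n * x * n⁻¹ ∈ D ↔ x ∈ D :=
  ⟨fun h => by simpa [mul_assoc] using Subgroup.Normal.conj_mem ‹D.Normal› _ h n⁻¹,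
    fun h => Subgroup.Normal.conj_mem ‹D.Normal› _ h n⟩

theorem rel_mem {x y z : ↥(G1 K 0)} {vx vy vz : List ℕ} (hx : (x : GL chevF4.Idx K) = xw K vx)
    (hy : (y : GL chevF4.Idx K) = xw K vy) (hz : (z : GL chevF4.Idx K) = xw K vz)
    (h : wordEqTest chevF4 tb (vx ++ vy) (vz ++ (vy ++ vx)) = true) :
    z ∈ commutator ↥(G1 K 0) := by
  have e : xw K (vx ++ vy) = xw K (vz ++ (vy ++ vx)) := word_eq_of_test hc hσ.char2 h
  rw [xw_append, xw_append, xw_append, ← hx, ← hy, ← hz] at e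
  have e' : x * y = z * (y * x) := Subtype.ext e
  have ez : z = ⁅x, y⁆ := by rw [commutatorElement_def, e']; group
  rw [ez, commutator_def]
  exact Subgroup.commutator_mem_commutator trivial trivial

theorem p_mem : pg hσ true (1 : K) ∈ commutator ↥(G1 K 0) := by
  refine (conj_mem_iff hσ (n := nuG hσ false 2)).1 (rel_mem hσ
    (coe_nuG_conj hσ false 1 (by decide) (coe_a hσ)) (coe_nuG_conj hσ false 3 (by decide) (coe_a hσ))
    (coe_nuG_conj hσ false 2 (by decide) (coe_p hσ)) ?_)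
  exact rel_p

theorem a2_mem : qg hσ true (0 : K) 1 ∈ commutator ↥(G1 K 0) := by
  refine (conj_mem_iff hσ (n := nuG hσ false 1)).1 (rel_mem hσ
    (coe_nuG_conj hσ false 0 (by decide) (coe_p hσ)) (coe_nuG_conj hσ false 3 (by decide) (coe_a hσ))
    (coe_nuG_conj hσ false 1 (by decide) (coe_a2 hσ)) ?_)
  exact rel_a

theorem a_sq : qg hσ true (1 : K) 0 * qg hσ true (1 : K) 0 = qg hσ true (0 : K) 1 := by
  rw [qg_sq, one_pow]

theorem gen_top : commutator ↥(G1 K 0) ⊔ Subgroup.zpowers (qg hσ true (1 : K) 0) = ⊤ := by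
  set L := commutator ↥(G1 K 0) ⊔ Subgroup.zpowers (qg hσ true (1 : K) 0) with hL
  have hD : commutator ↥(G1 K 0) ≤ L := le_sup_left
  have ha : qg hσ true (1 : K) 0 ∈ L := Subgroup.mem_sup_right (Subgroup.mem_zpowers _)
  have hconj : ∀ {n x : ↥(G1 K 0)}, x ∈ L → n * x * n⁻¹ ∈ L := fun {n x} hx => by
    rw [show n * x * n⁻¹ = ⁅n, x⁆ * x by rw [commutatorElement_def]; group]
    refine mul_mem (hD ?_) hx
    rw [commutator_def]
    exact Subgroup.commutator_mem_commutator trivial trivial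
  have hp : ∀ t : K, pg hσ true t ∈ L := fun t => by
    rcases zero_or_one hσ t with rfl | rfl
    · rw [pg_zero]; exact one_mem _
    · exact hD (p_mem hσ)
  have hq : ∀ x u : K, qg hσ true x u ∈ L := fun x u => by
    rcases zero_or_one hσ x with rfl | rfl <;> rcases zero_or_one hσ u with rfl | rfl
    · rw [qg_zero]; exact one_mem _
    · exact hD (a2_mem hσ)
    · exact ha
    · have := mul_mem ha (hD (a2_mem hσ))
      rw [qg_mul] at this
      simpa using this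
  have hle : G1 K 0 ≤ L.map (G1 K 0).subtype := by
    refine gens_le hσ (fun b t => ⟨pg hσ b t, ?_, rfl⟩) (fun b x u => ⟨qg hσ b x u, ?_, rfl⟩) <;> cases b
    · exact (ng_conj_pg hσ true t) ▸ hconj (hp t)
    · exact hp t
    · exact (ng_conj_qg hσ true x u) ▸ hconj (hq x u)
    · exact hq x u
  rw [eq_top_iff]
  intro x _
  obtain ⟨y, hy, e⟩ := hle x.2
  rwa [← show y = x from Subtype.ext e]

theorem index_derived : (commutator ↥(G1 K 0)).index = 2 := by
  have ha2 : (qg hσ true (1 : K) 0) ^ 2 ∈ commutator ↥(G1 K 0) := by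
    rw [pow_two, a_sq]; exact a2_mem hσ
  set a := qg hσ true (1 : K) 0
  set D := commutator ↥(G1 K 0)
  have hcyc : ∀ z : ↥(G1 K 0) ⧸ D, z ∈ Subgroup.zpowers (a : ↥(G1 K 0) ⧸ D) := by
    intro z
    obtain ⟨g, rfl⟩ := QuotientGroup.mk'_surjective D z
    obtain ⟨d, hd, w, ⟨i, rfl⟩, rfl⟩ := Subgroup.mem_sup_of_normal_left.1
      (show g ∈ D ⊔ Subgroup.zpowers a by rw [gen_top hσ]; trivial)
    exact ⟨i, by
      show (a : ↥(G1 K 0) ⧸ D) ^ i = QuotientGroup.mk' D (d * a ^ i)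
      rw [map_mul, map_zpow]
      rw [show QuotientGroup.mk' D d = 1 from (QuotientGroup.eq_one_iff d).2 hd, one_mul]
      rfl⟩
  have hdvd : D.index ∣ 2 := by
    rw [Subgroup.index, ← orderOf_eq_card_of_forall_mem_zpowers hcyc]
    refine orderOf_dvd_of_pow_eq_one ?_
    exact (QuotientGroup.eq_one_iff (a ^ 2)).2 ha2
  rcases (Nat.dvd_prime Nat.prime_two).1 hdvd with h | h
  swap
  · exact h
  exfalso
  have haU : a ∈ Uw K 0 := qg_mem_U hσ 1 0
  have hker : D ≤ (MonoidHom.transfer (mu hσ)).ker := Abelianization.commutator_subset_ker _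
  have h1 : MonoidHom.transfer (mu hσ) a = 1 :=
    MonoidHom.mem_ker.1 (hker (by rw [Subgroup.index_eq_one.1 h]; trivial))
  rw [transfer_mu hσ a haU] at h1
  have h2 : muF hσ ⟨a, haU⟩ = 0 := ofAdd_eq_one.1 h1
  have hact := act_class hσ true (k := 0) (by decide) 1 (by decide)
  rw [show sideAt true 0 = true from rfl] at hact
  have e : nu K true 0 * xw K ((bw true).getD ((1 : Fin 4) : ℕ) []) * (nu K true 0)⁻¹ =
      (a : GL chevF4.Idx K) := by
    rw [coe_a hσ, show (bw true).getD ((1 : Fin 4) : ℕ) [] = [f4b, f4a, f4aab] from rfl,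
      show nu K true 0 = 1 from rfl]
    group
  rw [e] at hact
  have := Act.unique hσ (muF_spec hσ ⟨a, haU⟩) hact
  rw [h2] at this
  exact absurd this (by decide)

end CfsgLib.ReeF4Tits
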