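import Cfsg.Agent.Lib.Twisted.F4Word
import Cfsg.Agent.Lib.Twisted.F4N

/-!
2F4(2): the tables of an orbit of 32 vectors of the unipotent group with two colours, and the checks
that the colour change is a function of the class elements alone.
-/

set_option autoImplicit false
set_option maxRecDepth 100000

namespace CfsgLib.ReeF4Tits

open Cfsg.Lie CfsgLib.Chev CfsgLib.ReeF4

/-- supports of the vectors of the orbit -/
def orbT : List (List ℕ) :=
  [[29,35],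
   [29,35,38],
   [29,35,44],
   [29,35,39,44],
   [29,35,39,40],
   [29,35,40],
   [29,35,37],
   [29,35,38,44],
   [29,35,38,39,44],
   [29,35,38,39,40,44],
   [29,35,38,40],
   [29,35,37,38,39],
   [29,35,37,38,39,40],
   [29,35,39],
   [29,35,39,40,44],
   [29,35,40,44],
   [29,35,37,44],
   [29,35,38,39],
   [29,35,37,39,40,44],
   [29,35,37,39],
   [29,35,37,40],
   [29,35,37,38],
   [29,35,37,38,39,44],
   [29,35,37,39,40],
   [29,35,38,39,40],
   [29,35,38,40,44],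
   [29,35,37,38,39,40,44],
   [29,35,37,38,40,44],
   [29,35,37,38,44],
   [29,35,37,40,44],
   [29,35,37,39,44],
   [29,35,37,38,40]]

/-- colours of the orbit -/
def colT : List ℕ := [0,1,0,1,1,0,1,1,0,0,1,0,0,1,1,0,1,0,0,0,1,1,0,0,0,1,0,1,1,1,0,1]

/-- images of the orbit under the class elements -/
def imgF : List (List (List ℕ)) :=
  [[[0,1,2,3,4,5,6,7,8,9,10,11,12,13,14,15,16,17,18,19,20,21,22,23,24,25,26,27,28,29,30,31],
    [0,1,2,3,14,15,21,7,8,24,25,19,18,13,4,5,28,17,12,11,27,6,30,26,9,10,23,20,16,31,22,29]],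
   [[0,1,2,3,4,5,6,7,8,9,10,11,12,13,14,15,16,17,18,19,20,21,22,23,24,25,26,27,28,29,30,31],
    [1,0,7,17,9,10,11,2,13,4,5,16,29,8,24,25,22,3,31,28,12,19,6,27,14,15,20,18,30,26,21,23],
    [0,1,2,3,4,5,16,7,8,9,10,22,26,13,14,15,6,17,23,30,29,28,11,18,24,25,12,31,21,20,19,27],
    [1,0,7,17,9,10,22,2,13,4,5,6,20,8,24,25,11,3,27,21,26,30,16,31,14,15,29,23,19,12,28,18]],
   [[0,1,2,3,4,5,6,7,8,9,10,11,12,13,14,15,16,17,18,19,20,21,22,23,24,25,26,27,28,29,30,31],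
    [2,7,0,13,14,15,16,1,17,24,25,22,26,3,4,5,6,8,23,30,29,28,11,18,9,10,12,31,21,20,19,27]],
   [[0,1,2,3,4,5,6,7,8,9,10,11,12,13,14,15,16,17,18,19,20,21,22,23,24,25,26,27,28,29,30,31],
    [3,8,13,0,15,14,18,17,1,10,9,27,28,2,5,4,23,7,6,29,30,26,31,16,25,24,21,11,12,19,20,22],
    [0,1,2,3,4,5,6,7,8,9,10,11,12,13,14,15,16,17,18,19,20,21,22,23,24,25,26,27,28,29,30,31],
    [3,8,13,0,15,14,18,17,1,10,9,27,28,2,5,4,23,7,6,29,30,26,31,16,25,24,21,11,12,19,20,22]],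
   [[0,1,2,3,4,5,6,7,8,9,10,11,12,13,14,15,16,17,18,19,20,21,22,23,24,25,26,27,28,29,30,31],
    [0,1,2,3,4,5,6,7,8,9,10,11,12,13,14,15,16,17,18,19,20,21,22,23,24,25,26,27,28,29,30,31]],
   [[0,1,2,3,4,5,6,7,8,9,10,11,12,13,14,15,16,17,18,19,20,21,22,23,24,25,26,27,28,29,30,31],
    [4,9,14,15,0,13,23,24,10,1,8,27,28,5,2,3,18,25,16,20,19,26,31,6,7,17,21,11,12,30,29,22],
    [0,1,2,3,4,5,6,7,8,9,10,11,12,13,14,15,16,17,18,19,20,21,22,23,24,25,26,27,28,29,30,31],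
    [4,9,14,15,0,13,23,24,10,1,8,27,28,5,2,3,18,25,16,20,19,26,31,6,7,17,21,11,12,30,29,22]],
   [[0,1,2,3,4,5,6,7,8,9,10,11,12,13,14,15,16,17,18,19,20,21,22,23,24,25,26,27,28,29,30,31],
    [5,10,15,14,13,0,20,25,9,8,1,12,11,4,3,2,29,24,30,23,6,31,26,19,17,7,22,28,27,16,18,21]],
   [[0,1,2,3,4,5,6,7,8,9,10,11,12,13,14,15,16,17,18,19,20,21,22,23,24,25,26,27,28,29,30,31],
    [6,11,16,18,19,20,0,22,27,28,12,10,1,23,30,29,2,31,3,4,5,17,25,13,21,26,7,9,8,15,14,24],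
    [0,10,2,3,4,5,6,25,9,8,1,12,11,13,14,15,16,24,18,19,20,31,26,23,17,7,22,28,27,29,30,21],
    [6,12,16,18,19,20,0,26,28,27,11,1,10,23,30,29,2,21,3,4,5,24,7,13,31,22,25,8,9,15,14,17]]]

/-- images of the orbit under the class elements -/
def imgT : List (List (List ℕ)) :=
  [[[0,1,2,3,4,5,6,7,8,9,10,11,12,13,14,15,16,17,18,19,20,21,22,23,24,25,26,27,28,29,30,31],
    [6,11,16,18,19,20,0,22,27,28,12,10,1,23,30,29,2,31,3,4,5,17,25,13,21,26,7,9,8,15,14,24],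
    [0,10,2,3,4,5,6,25,9,8,1,12,11,13,14,15,16,24,18,19,20,31,26,23,17,7,22,28,27,29,30,21],
    [6,12,16,18,19,20,0,26,28,27,11,1,10,23,30,29,2,21,3,4,5,24,7,13,31,22,25,8,9,15,14,17]],
   [[0,1,2,3,4,5,6,7,8,9,10,11,12,13,14,15,16,17,18,19,20,21,22,23,24,25,26,27,28,29,30,31],
    [5,10,15,14,13,0,20,25,9,8,1,12,11,4,3,2,29,24,30,23,6,31,26,19,17,7,22,28,27,16,18,21]],
   [[0,1,2,3,4,5,6,7,8,9,10,11,12,13,14,15,16,17,18,19,20,21,22,23,24,25,26,27,28,29,30,31],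
    [4,9,14,15,0,13,23,24,10,1,8,27,28,5,2,3,18,25,16,20,19,26,31,6,7,17,21,11,12,30,29,22],
    [0,1,2,3,4,5,6,7,8,9,10,11,12,13,14,15,16,17,18,19,20,21,22,23,24,25,26,27,28,29,30,31],
    [4,9,14,15,0,13,23,24,10,1,8,27,28,5,2,3,18,25,16,20,19,26,31,6,7,17,21,11,12,30,29,22]],
   [[0,1,2,3,4,5,6,7,8,9,10,11,12,13,14,15,16,17,18,19,20,21,22,23,24,25,26,27,28,29,30,31],
    [0,1,2,3,4,5,6,7,8,9,10,11,12,13,14,15,16,17,18,19,20,21,22,23,24,25,26,27,28,29,30,31]],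
   [[0,1,2,3,4,5,6,7,8,9,10,11,12,13,14,15,16,17,18,19,20,21,22,23,24,25,26,27,28,29,30,31],
    [3,8,13,0,15,14,18,17,1,10,9,27,28,2,5,4,23,7,6,29,30,26,31,16,25,24,21,11,12,19,20,22],
    [0,1,2,3,4,5,6,7,8,9,10,11,12,13,14,15,16,17,18,19,20,21,22,23,24,25,26,27,28,29,30,31],
    [3,8,13,0,15,14,18,17,1,10,9,27,28,2,5,4,23,7,6,29,30,26,31,16,25,24,21,11,12,19,20,22]],
   [[0,1,2,3,4,5,6,7,8,9,10,11,12,13,14,15,16,17,18,19,20,21,22,23,24,25,26,27,28,29,30,31],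
    [2,7,0,13,14,15,16,1,17,24,25,22,26,3,4,5,6,8,23,30,29,28,11,18,9,10,12,31,21,20,19,27]],
   [[0,1,2,3,4,5,6,7,8,9,10,11,12,13,14,15,16,17,18,19,20,21,22,23,24,25,26,27,28,29,30,31],
    [1,0,7,17,9,10,11,2,13,4,5,16,29,8,24,25,22,3,31,28,12,19,6,27,14,15,20,18,30,26,21,23],
    [0,1,2,3,4,5,16,7,8,9,10,22,26,13,14,15,6,17,23,30,29,28,11,18,24,25,12,31,21,20,19,27],
    [1,0,7,17,9,10,22,2,13,4,5,6,20,8,24,25,11,3,27,21,26,30,16,31,14,15,29,23,19,12,28,18]],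
   [[0,1,2,3,4,5,6,7,8,9,10,11,12,13,14,15,16,17,18,19,20,21,22,23,24,25,26,27,28,29,30,31],
    [0,1,2,3,14,15,21,7,8,24,25,19,18,13,4,5,28,17,12,11,27,6,30,26,9,10,23,20,16,31,22,29]]]

/-- words for the elements of the two classes of simple roots -/
def bw : Bool → List (List ℕ)
  | false => [[], [f4p1, f4p4]]
  | true => [[], [f4b, f4a, f4aab], [f4ab, f4aab], [f4b, f4a, f4ab]]

/-- their colour changes -/
def bty : Bool → List ℕ
  | false => [0, 0]
  | true => [0, 1, 0, 1]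

/-- the number of elements of a class -/
def bn (t : Bool) : ℕ := cond t 4 2

/-- the word of a class element -/
noncomputable def cw (s : Bool) (k e : ℕ) : List ℕ :=
  ((bw (sideAt s k)).getD e []).map (sigs chevF4 tb (altW s k))

/-- the support of a vector of the orbit -/
def sup (i : ℕ) : List ℕ := orbT.getD i []

/-- the image of a vector of the orbit under a class element -/
def img (s : Bool) (k e i : ℕ) : ℕ := ((((cond s imgT imgF).getD k []).getD e [])).getD i 0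

/-- the vector with a given support -/
def vecL (i : ℕ) : List (ℕ × ℤ) := (sup i).map fun j => (j, (1 : ℤ))

theorem cw_lt : ∀ s : Bool, ∀ k : Fin 8, ∀ e : Fin 4,
    ∀ r ∈ cw s k e, r < chevF4.nroots := by decide +kernel

theorem sup_lt : ∀ i : Fin 32, ∀ j ∈ sup i, j < chevF4.nroots + chevF4.rank := by decide +kernel

theorem img_lt : ∀ s : Bool, ∀ k : Fin 8, ∀ e : Fin 4, ∀ i : Fin 32, img s k e i < 32 := by
  decide +kernel

theorem colour_check : ∀ s : Bool, ∀ k : Fin 8, ∀ e : Fin 4, e.val < bn (sideAt s k) → ∀ i : Fin 32,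
    (colT.getD (img s k e i) 0 + colT.getD i 0) % 2 = (bty (sideAt s k)).getD e 0 % 2 := by
  decide +kernel

theorem act_check : ∀ s : Bool, ∀ k : Fin 8, ∀ e : Fin 4, e.val < bn (sideAt s k) → ∀ i : Fin 32,
    oddWord chevF4 tb (cw s k e) (oddVec (dimN chevF4) (vecL i)) = vecL (img s k e i) := by
  decide +kernel

theorem vec_sep : ∀ i j : Fin 32, i ≠ j → ∃ p : Fin 52,
    (coeffAt (vecL i) p).natAbs % 2 ≠ (coeffAt (vecL j) p).natAbs % 2 := by decide +kernel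

theorem revW_altW : ∀ s : Bool, ∀ k : Fin 9, ∃ s' : Bool, revW s k = altW s' k := by decide +kernel

theorem altW_add : ∀ s : Bool, ∀ j : Fin 9, ∀ k : Fin 9, k.val ≤ j.val →
    altW s j = altW s k ++ altW (sideAt s k) (j.val - k.val) ∧
      sideAt (sideAt s k) (j.val - k.val) = sideAt s j := by decide +kernel

/-- a relation putting the element of the pair into the derived group -/
theorem rel_p : wordEqTest chevF4 tb
    (cw false 1 1 ++ cw false 3 1) (cw false 2 1 ++ (cw false 3 1 ++ cw false 1 1)) = true := by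
  decide +kernel

/-- a relation putting the square of the element of the quadruple into the derived group -/
theorem rel_a : wordEqTest chevF4 tb
    (cw false 0 1 ++ cw false 3 1) (cw false 1 2 ++ (cw false 3 1 ++ cw false 0 1)) = true := by
  decide +kernel

end CfsgLib.ReeF4Tits
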