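import Cfsg.Agent.Lib.ReeF4Tits.Base
import Cfsg.Agent.Lib.ReeF4Out.Basic
import Cfsg.Agent.Lib.Twisted.F4Bruhat

/-!
2F4(2): the colour change is a homomorphism on the unipotent group which does not change under
conjugation inside the whole group.
-/

set_option autoImplicit false
set_option linter.unusedSectionVars false
set_option maxRecDepth 4000

namespace CfsgLib.ReeF4Tits

open Cfsg.Lie CfsgLib.Chev CfsgLib.ReeF4

variable {K : Type*} [Field K] [Fintype K]

/-- a vector of the orbit -/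
noncomputable def vec (K : Type*) [Field K] (i : Fin 32) : chevF4.Idx → K :=
  fun x => ((vecOf chevF4 (oddVec (dimN chevF4) (vecL i)) x : ℤ) : K)

/-- the colour of a vector -/
def colZ (i : Fin 32) : ZMod 2 := (colT.getD i 0 : ℕ)

/-- an element maps the orbit to itself and changes the colour by `c` -/
def Act (g : GL chevF4.Idx K) (c : ZMod 2) : Prop :=
  ∀ i : Fin 32, ∃ j : Fin 32,
    (g : Matrix chevF4.Idx chevF4.Idx K).mulVec (vec K i) = vec K j ∧ colZ j = colZ i + c

theorem Act.one : Act (1 : GL chevF4.Idx K) 0 := fun i => ⟨i, by simp, (add_zero _).symm⟩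

theorem Act.mul {g h : GL chevF4.Idx K} {c d : ZMod 2} (hg : Act g c) (hh : Act h d) :
    Act (g * h) (c + d) := by
  intro i
  obtain ⟨j, e1, e2⟩ := hh i
  obtain ⟨l, e3, e4⟩ := hg j
  refine ⟨l, ?_, ?_⟩
  · rw [Units.val_mul, ← Matrix.mulVec_mulVec, e1, e3]
  · rw [e4, e2, add_assoc, add_comm d c]

/-- a product of root elements -/
noncomputable def xw (K : Type*) [Field K] (w : List ℕ) : GL chevF4.Idx K :=
  (w.map fun r => X r (1 : K)).prod

/-- the monomial element of an alternating product -/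
noncomputable def nu (K : Type*) [Field K] (s : Bool) (k : ℕ) : GL chevF4.Idx K :=
  nProd chevF4 K (altW s k)

variable {σ : MulAut ↥(chevF4.group K)} (hσ : IsSigma 0 σ)
include hσ

theorem zero_or_one (x : K) : x = 0 ∨ x = 1 := by
  have h := FiniteField.pow_card x
  rw [hσ.card] at h
  have h' : x * (x - 1) = 0 := by linear_combination h
  rcases mul_eq_zero.1 h' with h' | h'
  · exact Or.inl h'
  · exact Or.inr (sub_eq_zero.1 h')

theorem vec_eq (i : Fin 32) : vec K i = fun x => ((vecOf chevF4 (vecL i) x : ℤ) : K) := by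
  funext x
  show ((coeffAt (oddVec _ _) (cd chevF4 x) : ℤ) : K) = _
  rw [coeffAt_oddVec _ _ (show cd chevF4 x < dimN chevF4 from cd_lt x)]
  refine cast_parity hσ.char2 ?_
  show _ = (coeffAt (vecL i) (cd chevF4 x)).natAbs % 2
  by_cases h : (coeffAt (vecL i) (cd chevF4 x)).natAbs % 2 = 0
  · simp [h]
  · simp [h]; omega

theorem vec_inj : Function.Injective (vec K) := by
  intro i j h
  by_contra hne
  obtain ⟨p, hp⟩ := vec_sep i j hne
  obtain ⟨x, hx⟩ : ∃ x : chevF4.Idx, cd chevF4 x = p.val :=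
    good_exists (D := chevF4) (L := [(p.val, 1)])
      (fun q hq => by simp at hq; subst hq; exact p.2) _ (List.mem_singleton_self _)
  have e := congrFun h x
  rw [vec_eq hσ, vec_eq hσ] at e
  simp only [vecOf, hx] at e
  set a := coeffAt (vecL i) p
  set b := coeffAt (vecL j) p
  have h1 : ((a - b : ℤ) : K) = ((1 : ℤ) : K) := cast_parity hσ.char2 (by omega)
  rw [Int.cast_sub, e, sub_self, Int.cast_one] at h1
  exact zero_ne_one h1

theorem Act.unique {g : GL chevF4.Idx K} {c d : ZMod 2} (hg : Act g c) (hh : Act g d) : c = d := by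
  obtain ⟨j, e1, e2⟩ := hg 0
  obtain ⟨l, e3, e4⟩ := hh 0
  obtain rfl : j = l := vec_inj hσ (e1.symm.trans e3)
  exact add_left_cancel (e2.symm.trans e4)

theorem nu_conj (L : List (Fin chevF4.rank)) : ∀ w : List ℕ, (∀ r ∈ w, r < 48) →
    nProd chevF4 K L * xw K w * (nProd chevF4 K L)⁻¹ = xw K (w.map (sigs chevF4 tb L))
  | [], _ => by simp [xw]
  | r :: w, h => by
    rw [List.forall_mem_cons] at h
    have ih := nu_conj L w h.2
    simp only [xw, List.map_cons, List.prod_cons] at ih ⊢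
    rw [← ih, ← conj_elX_one hσ.char2 L (show r < chevF4.nroots from h.1) 1]
    group

omit hσ in
theorem bw_lt : ∀ t : Bool, ∀ w ∈ bw t, ∀ r ∈ w, r < 48 := by decide +kernel

theorem base_elems {t : Bool} {g : GL chevF4.Idx K} (hg : g ∈ V σ (JRoot t)) :
    ∃ e : Fin 4, e.val < bn t ∧ g = xw K ((bw t).getD e []) := by
  have h2 : (1 : K) + 1 = 0 := add_self hσ 1
  have hX : ∀ r, r < 48 → X r (0 : K) = 1 := fun r hr => ReeF4Out.X_zero' hσ hr
  cases t
  · have hbij : Function.Bijective fun x : K =>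
        (⟨ReeF4Out.pgv 0 true x, ReeF4Out.pgv_pos_mem hσ x⟩ : V σ (JRoot false)) := by
      refine Function.Injective.bijective_of_nat_card_le (fun x y h => ?_) ?_
      · exact ReeF4Out.pg_inj hσ (b := true) (Subtype.ext (congrArg (fun z : V σ (JRoot false) => z.1) h))
      · rw [(base_spec hσ false).2, cond_false, pow_one, ← Nat.card_eq_fintype_card]
    obtain ⟨x, hx⟩ := hbij.2 ⟨g, hg⟩
    have hg' : g = ReeF4Out.pgv 0 true x := (congrArg Subtype.val hx).symm
    rw [hg']
    rcases zero_or_one hσ x with rfl | rfl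
    · exact ⟨0, by decide, by simp [bw, xw, ReeF4Out.pgv, ReeF4Out.pR, hX f4p1 (by decide),
        hX f4p4 (by decide)]⟩
    · exact ⟨1, by decide, by simp [bw, xw, ReeF4Out.pgv, ReeF4Out.pR]⟩
  · have hbij : Function.Bijective fun p : K × K =>
        (⟨ReeF4Out.qgv 0 true p.1 p.2, ReeF4Out.qgv_pos_mem hσ p.1 p.2⟩ : V σ (JRoot true)) := by
      refine Function.Injective.bijective_of_nat_card_le (fun p q h => ?_) ?_
      · have := ReeF4Out.qg_inj hσ (b := true) (x := p.1) (u := p.2) (y := q.1) (v := q.2)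
          (Subtype.ext (congrArg (fun z : V σ (JRoot true) => z.1) h))
        exact Prod.ext this.1 this.2
      · rw [(base_spec hσ true).2, cond_true, Nat.card_prod, pow_two, ← Nat.card_eq_fintype_card]
    obtain ⟨⟨x, u⟩, hx⟩ := hbij.2 ⟨g, hg⟩
    have hg' : g = ReeF4Out.qgv 0 true x u := (congrArg Subtype.val hx).symm
    rw [hg']
    rcases zero_or_one hσ x with rfl | rfl <;> rcases zero_or_one hσ u with rfl | rfl
    · exact ⟨0, by decide, by simp [bw, xw, ReeF4Out.qgv, ReeF4Out.qR, quadNF, hX f4a (by decide),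
        hX f4b (by decide), hX f4ab (by decide), hX f4aab (by decide)]⟩
    · exact ⟨2, by decide, by simp [bw, xw, ReeF4Out.qgv, ReeF4Out.qR, quadNF, hX f4a (by decide),
        hX f4b (by decide)]⟩
    · exact ⟨1, by decide, by simp [bw, xw, ReeF4Out.qgv, ReeF4Out.qR, quadNF, hX f4ab (by decide),
        mul_assoc]⟩
    · exact ⟨3, by decide, by simp [bw, xw, ReeF4Out.qgv, ReeF4Out.qR, quadNF, hX f4aab (by decide),
        h2, mul_assoc]⟩

theorem act_class (s : Bool) {k : ℕ} (hk : k < 8) (e : Fin 4) (he : e.val < bn (sideAt s k)) :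
    Act (nu K s k * xw K ((bw (sideAt s k)).getD e []) * (nu K s k)⁻¹)
      (((bty (sideAt s k)).getD e 0 : ℕ) : ZMod 2) := by
  have hmem : ∀ r ∈ (bw (sideAt s k)).getD e [], r < 48 := by
    intro r hr
    rcases Nat.lt_or_ge e.val (bw (sideAt s k)).length with h | h
    · rw [List.getD_eq_getElem _ _ h] at hr
      exact bw_lt _ _ (List.getElem_mem h) r hr
    · rw [List.getD_eq_default _ _ h] at hr
      exact absurd hr (by simp)
  rw [nu, nu_conj hσ _ _ hmem]
  intro i
  refine ⟨⟨_, img_lt s ⟨k, hk⟩ e i⟩, ?_, ?_⟩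
  · have hgood : CfsgLib.Chev.Good chevF4 (oddVec (dimN chevF4) (vecL i)) := by
      intro p hp
      obtain ⟨j, hj, rfl⟩ := List.mem_map.1 hp
      exact List.mem_range.1 (List.mem_filter.1 hj).1
    have h := (vecOf_oddWord hc hσ.char2 (K := K) (w := cw s k e) (cw_lt s ⟨k, hk⟩ e) hgood).2
    rw [act_check s ⟨k, hk⟩ e he i] at h
    rw [xw, ← Units.coeHom_apply, map_list_prod, List.map_map, vec_eq hσ ⟨_, img_lt s ⟨k, hk⟩ e i⟩]
    exact h.symm
  · have h := colour_check s ⟨k, hk⟩ e he i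
    have h' := (ZMod.natCast_eq_natCast_iff' _ _ 2).2 h
    rw [Nat.cast_add] at h'
    simp only [colZ] at h' ⊢
    rw [← h', add_comm, add_assoc, CharTwo.add_self_eq_zero, add_zero]

theorem class_elem {s : Bool} {k : ℕ} (hk : k < 8) {g : GL chevF4.Idx K} (hg : g ∈ V σ (SRoot s k)) :
    ∃ e : Fin 4, e.val < bn (sideAt s k) ∧
      g = nu K s k * xw K ((bw (sideAt s k)).getD e []) * (nu K s k)⁻¹ := by
  have hnF := nu_fixed hσ s k
  have hg' : (nu K s k)⁻¹ * g * nu K s k ∈ V σ (JRoot (sideAt s k)) :=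
    Subgroup.mem_inf.2 ⟨conj_nProd_inv_uGen _ (fun r hr hS => (sroot_iff hk hr).1 hS) hg.1,
      mul_mem (mul_mem (inv_mem hnF) (hg.2 : g ∈ fixF σ)) hnF⟩
  obtain ⟨e, he, h⟩ := base_elems hσ hg'
  exact ⟨e, he, by rw [← h]; group⟩

theorem act_iroot (s : Bool) : ∀ k ≤ 8, ∀ g ∈ V σ (IRoot s k), ∃ c, Act g c := by
  intro k hk
  induction k with
  | zero =>
    intro g hg
    have : V σ (IRoot s 0) = ⊥ := by
      refine eq_bot_iff.2 (inf_le_left.trans ?_)
      refine uGen_le_iff.2 fun r hr h => ?_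
      exact absurd h.2 (Nat.not_lt.2 h.1)
    rw [this, Subgroup.mem_bot] at hg
    exact ⟨0, hg ▸ Act.one⟩
  | succ k ih =>
    intro g hg
    obtain ⟨a, ha, b, hb, rfl⟩ := fixed_components hσ (P := IRoot s (k + 1)) (Q := IRoot s k)
      (R := SRoot s k) (closedPos_inv hc _) (closedPos_inv hc _) (closedPos_sroot s k)
      (fun r hr a b => absurd a.2 (Nat.not_lt.2 b.2.1))
      (fun r hr => (iroot_split (by omega) hr).1) (fun r hr => iroot_rho (by omega) hr)
      (fun r hr => sroot_rho (by omega) hr) hg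
    obtain ⟨c, hca⟩ := ih (by omega) a ha
    obtain ⟨e, he, rfl⟩ := class_elem hσ (by omega) hb
    exact ⟨_, hca.mul (act_class hσ s (by omega) e he)⟩

theorem act_U {g : GL chevF4.Idx K} (hg : g ∈ V σ PosR) : ∃ c, Act g c := by
  rw [V_pos_eq hσ false] at hg
  exact act_iroot hσ false 8 le_rfl g hg

theorem act_shift (s : Bool) {k : ℕ} (hk : k ≤ 8) : ∀ d j : ℕ, j + d = 8 → k ≤ j →
    ∀ g ∈ V σ (TRoot s j), ∃ c, Act g c ∧ Act ((nu K s k)⁻¹ * g * nu K s k) c := by
  intro d
  induction d with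
  | zero =>
    intro j hj _ g hg
    obtain rfl : j = 8 := by omega
    have : V σ (TRoot s 8) = ⊥ := by
      refine eq_bot_iff.2 (inf_le_left.trans ?_)
      refine uGen_le_iff.2 fun r hr h => ?_
      exact absurd h.2 (Nat.not_le.2 (longest s ⟨r, hr⟩ h.1).1)
    rw [this, Subgroup.mem_bot] at hg
    subst hg
    exact ⟨0, Act.one, by simpa using (Act.one : Act (1 : GL chevF4.Idx K) 0)⟩
  | succ d ih =>
    intro j hj hkj g hg
    obtain ⟨a, ha, b, hb, rfl⟩ := fixed_components hσ (P := TRoot s j) (Q := SRoot s j)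
      (R := TRoot s (j + 1)) (closedPos_keep hc _) (closedPos_sroot s j) (closedPos_keep hc _)
      (fun r hr a b => absurd b.2 (Nat.not_le.2 a.2.2))
      (fun r hr => (troot_split (by omega) hr).1) (fun r hr => sroot_rho (by omega) hr)
      (fun r hr => troot_rho (by omega) hr) hg
    obtain ⟨c, hcb, hcb'⟩ := ih (j + 1) (by omega) (by omega) b hb
    obtain ⟨e, he, rfl⟩ := class_elem hσ (by omega) ha
    obtain ⟨hL, hside⟩ := altW_add s ⟨j, by omega⟩ ⟨k, by omega⟩ hkj
    have hn : nu K s j = nu K s k * nu K (sideAt s k) (j - k) := by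
      rw [nu, nu, nu, ← nProd_append]
      exact congrArg _ hL
    simp only at hside
    refine ⟨_, (act_class hσ s (by omega) e he).mul hcb, ?_⟩
    have h1 := act_class hσ (sideAt s k) (k := j - k) (by omega) e (by rw [hside]; exact he)
    rw [hside] at h1
    have e2 : (nu K s k)⁻¹ * (nu K s j * xw K ((bw (sideAt s j)).getD e []) * (nu K s j)⁻¹ * b) *
        nu K s k = nu K (sideAt s k) (j - k) * xw K ((bw (sideAt s j)).getD e []) *
          (nu K (sideAt s k) (j - k))⁻¹ * ((nu K s k)⁻¹ * b * nu K s k) := by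
      rw [hn]; group
    rw [e2]
    exact h1.mul hcb'

theorem act_nu (s : Bool) {k : ℕ} (hk : k ≤ 8) {y : GL chevF4.Idx K} (hy : y ∈ V σ PosR)
    (hy' : (nu K s k)⁻¹ * y * nu K s k ∈ V σ PosR) :
    ∃ c, Act y c ∧ Act ((nu K s k)⁻¹ * y * nu K s k) c := by
  obtain ⟨a, ha, b, hb, rfl⟩ := fixed_components hσ (P := PosR) (Q := IRoot s k) (R := TRoot s k)
    (closedPos_pos hc) (closedPos_inv hc _) (closedPos_keep hc _)
    (fun r hr a b => absurd b.2 (Nat.not_le.2 a.2))
    (fun r hr h => (Nat.lt_or_ge (sigs chevF4 tb (altW s k).reverse r) 24).imp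
      (fun g => ⟨h, g⟩) (fun g => ⟨h, g⟩))
    (fun r hr => iroot_rho (by omega) hr) (fun r hr => troot_rho (by omega) hr) hy
  have hb' : (nu K s k)⁻¹ * b * nu K s k ∈ uGen chevF4 K PosR :=
    conj_nProd_inv_uGen _ (fun r hr h => h.2) hb.1
  have ha' : (nu K s k)⁻¹ * a * nu K s k ∈ ChevAut.Um chevF4 K :=
    conj_nProd_inv_uGen _ (fun r hr h => h.2) ha.1
  have e : (nu K s k)⁻¹ * a * nu K s k =
      (nu K s k)⁻¹ * (a * b) * nu K s k * ((nu K s k)⁻¹ * b * nu K s k)⁻¹ := by group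
  have h1 : (nu K s k)⁻¹ * a * nu K s k = 1 :=
    ChevAut.pos_inf_neg hc (e ▸ mul_mem hy'.1 (inv_mem hb')) ha'
  obtain rfl : a = 1 := by
    have h2 : a = nu K s k * ((nu K s k)⁻¹ * a * nu K s k) * (nu K s k)⁻¹ := by group
    rw [h2, h1]; group
  rw [one_mul]
  exact act_shift hσ s hk (8 - k) k (by omega) le_rfl b hb

theorem diag_trivial {h : GL chevF4.Idx K} (hh : h ∈ chevF4.diagonalSubgroup K) : h = 1 := by
  obtain ⟨c, rfl⟩ := (mem_diagonal hc).1 hh
  have : c = 1 := funext fun i => Units.ext (by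
    rcases zero_or_one hσ (c i : K) with e | e
    · exact absurd e (c i).ne_zero
    · exact e)
  rw [this]
  simp

/-- the colour change does not see conjugation -/
theorem act_conj {g x : GL chevF4.Idx K} (hg : g ∈ fixF σ) (hx : x ∈ V σ PosR)
    (hx' : g * x * g⁻¹ ∈ V σ PosR) {c : ZMod 2} (hc1 : Act x c) : Act (g * x * g⁻¹) c := by
  obtain ⟨u, hu, h, hh, s, k, v, hv, rfl⟩ := fixed_bruhat hσ hg
  obtain rfl := diag_trivial hσ hh.1
  obtain ⟨s', hs'⟩ := revW_altW s k
  rw [hs'] at hx' ⊢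
  have hv' : v ∈ V σ PosR := V_mono (fun r hr h => h.1) hv
  obtain ⟨cu, hcu⟩ := act_U hσ hu
  obtain ⟨cu', hcu'⟩ := act_U hσ (inv_mem hu)
  obtain ⟨cv, hcv⟩ := act_U hσ hv'
  obtain ⟨cv', hcv'⟩ := act_U hσ (inv_mem hv')
  have inv0 : ∀ {a : GL chevF4.Idx K} {p q : ZMod 2}, Act a p → Act a⁻¹ q → p + q = 0 :=
    fun {a p q} h1 h2 => Act.unique hσ (h1.mul h2) (by rw [mul_inv_cancel]; exact Act.one)
  set n := nProd chevF4 K (altW s' k) with hn
  have hy : n * (v * x * v⁻¹) * n⁻¹ ∈ V σ PosR := by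
    have := mul_mem (mul_mem (inv_mem hu) hx') hu
    rw [show u⁻¹ * (u * (1 * n) * v * x * (u * (1 * n) * v)⁻¹) * u = n * (v * x * v⁻¹) * n⁻¹ by group]
      at this
    exact this
  have hz : n⁻¹ * (n * (v * x * v⁻¹) * n⁻¹) * n = v * x * v⁻¹ := by group
  obtain ⟨d, hd, hd'⟩ := act_nu hσ s' (k := k) (by omega) hy
    (by rw [show nu K s' k = n from rfl, hz]; exact mul_mem (mul_mem hv' hx) (inv_mem hv'))
  rw [show nu K s' k = n from rfl, hz] at hd'
  have hdc : d = c := by
    have h1 := Act.unique hσ hd' ((hcv.mul hc1).mul hcv')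
    have h2 := inv0 hcv hcv'
    rw [h1]; linear_combination h2
  subst hdc
  have hfin := (hcu.mul hd).mul hcu'
  have h3 : cu + d + cu' = d := by linear_combination inv0 hcu hcu'
  rw [h3] at hfin
  convert hfin using 1
  group

end CfsgLib.ReeF4Tits
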